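import Cfsg.Agent.Lib.Cert.J2.M
import Cfsg.Agent.Lib.Cert.Out

set_option autoImplicit false
set_option maxRecDepth 100000

namespace Cfsg.Agent.Ct.J2f

open Cfsg.Agent.PC

open Cfsg.Agent.Fi Cfsg.Agent.Ct
def W_t : TL := (TL.node (TL.node (TL.node (TL.node (TL.node (TL.leaf [nat_lit 2, nat_lit 3, nat_lit 0, nat_lit 3, nat_lit 1, nat_lit 3, nat_lit 0, nat_lit 3, nat_lit 2, nat_lit 0, nat_lit 2, nat_lit 3, nat_lit 2, nat_lit 0, nat_lit 2, nat_lit 3, nat_lit 0, nat_lit 3, nat_lit 1, nat_lit 3, nat_lit 0, nat_lit 3, nat_lit 2]) (TL.leaf [nat_lit 2, nat_lit 0, nat_lit 3, nat_lit 1, nat_lit 0, nat_lit 3, nat_lit 2, nat_lit 0, nat_lit 1, nat_lit 2, nat_lit 3, nat_lit 0, nat_lit 1, nat_lit 0, nat_lit 3, nat_lit 1, nat_lit 2, nat_lit 0, nat_lit 3, nat_lit 1, nat_lit 3, nat_lit 2, nat_lit 0, nat_lit 3, nat_lit 1, nat_lit 2, nat_lit 3, nat_lit 0, nat_lit 2])) (TL.leaf [nat_lit 1, nat_lit 0, nat_lit 3, nat_lit 0, nat_lit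 2, nat_lit 1, nat_lit 0, nat_lit 3, nat_lit 0, nat_lit 2, nat_lit 0, nat_lit 1, nat_lit 3, nat_lit 0, nat_lit 3])) (TL.node (TL.leaf [nat_lit 1, nat_lit 3, nat_lit 0, nat_lit 1, nat_lit 3, nat_lit 0, nat_lit 1, nat_lit 2, nat_lit 0, nat_lit 3, nat_lit 1, nat_lit 0, nat_lit 3, nat_lit 1]) (TL.leaf []))) (TL.node (TL.node (TL.node (TL.leaf [nat_lit 2, nat_lit 3, nat_lit 0, nat_lit 3, nat_lit 1, nat_lit 3, nat_lit 0, nat_lit 3, nat_lit 2, nat_lit 0, nat_lit 1, nat_lit 3, nat_lit 2, nat_lit 3, nat_lit 1, nat_lit 0, nat_lit 1, nat_lit 2, nat_lit 3, nat_lit 0, nat_lit 3, nat_lit 2]) (TL.leaf [nat_lit 3, nat_lit 0, nat_lit 2, nat_lit 1, nat_lit 0, nat_lit 3, nat_lit 0, nat_lit 3, nat_lit 1, nat_lit 2, nat_lit 0, nat_lit 3, nat_lit 1, nat_lit 3, nat_lit 2, nat_lit 0, nat_lit 3, nat_lit 2, nat_lit 3, nat_lit 0, nat_lit 1])) (TL.leaf [nat_lit 3, nat_lit 0, nat_lit 2, nat_lit 1, nat_lit 0, nat_lit 3, nat_lit 1, nat_lit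 2, nat_lit 0, nat_lit 3, nat_lit 0, nat_lit 2, nat_lit 3, nat_lit 1, nat_lit 0, nat_lit 3, nat_lit 0, nat_lit 1, nat_lit 3, nat_lit 0, nat_lit 3, nat_lit 0, nat_lit 1, nat_lit 3, nat_lit 0, nat_lit 1, nat_lit 3, nat_lit 1, nat_lit 0, nat_lit 2, nat_lit 1, nat_lit 3, nat_lit 2, nat_lit 0, nat_lit 2, nat_lit 3])) (TL.node (TL.leaf [nat_lit 3, nat_lit 0, nat_lit 2, nat_lit 1, nat_lit 3, nat_lit 0, nat_lit 1, nat_lit 2, nat_lit 0, nat_lit 3, nat_lit 0, nat_lit 3, nat_lit 2, nat_lit 0, nat_lit 3, nat_lit 1, nat_lit 0, nat_lit 3, nat_lit 1, nat_lit 2, nat_lit 0, nat_lit 3, nat_lit 0, nat_lit 2]) (TL.leaf [nat_lit 2, nat_lit 1, nat_lit 0, nat_lit 2, nat_lit 3, nat_lit 0, nat_lit 1, nat_lit 3, nat_lit 0, nat_lit 1, nat_lit 2, nat_lit 0, nat_lit 3, nat_lit 1, nat_lit 0, nat_lit 2, nat_lit 0, nat_lit 3, nat_lit 1, nat_lit 0, nat_lit 3, nat_lit 2, nat_lit 1, nat_lit 0, nat_lit 1, nat_lit 3, nat_lit 2, nat_lit 0, nat_lit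 1, nat_lit 2])))) (TL.node (TL.node (TL.node (TL.node (TL.leaf [nat_lit 0, nat_lit 2, nat_lit 0, nat_lit 3, nat_lit 0, nat_lit 2, nat_lit 1, nat_lit 0, nat_lit 3, nat_lit 1, nat_lit 2, nat_lit 0, nat_lit 3, nat_lit 0, nat_lit 2, nat_lit 1, nat_lit 3, nat_lit 0, nat_lit 2, nat_lit 1, nat_lit 3, nat_lit 0, nat_lit 2, nat_lit 0]) (TL.leaf [nat_lit 3, nat_lit 0, nat_lit 2, nat_lit 1, nat_lit 3, nat_lit 0, nat_lit 1, nat_lit 2, nat_lit 0, nat_lit 3, nat_lit 2, nat_lit 0, nat_lit 3, nat_lit 1, nat_lit 0, nat_lit 3, nat_lit 1, nat_lit 0, nat_lit 1, nat_lit 3, nat_lit 1, nat_lit 3])) (TL.leaf [nat_lit 2, nat_lit 0, nat_lit 2, nat_lit 3, nat_lit 0, nat_lit 1, nat_lit 3, nat_lit 2, nat_lit 0, nat_lit 2, nat_lit 1, nat_lit 3, nat_lit 0, nat_lit 1])) (TL.node (TL.leaf [nat_lit 2, nat_lit 1, nat_lit 0, nat_lit 1, nat_lit 2, nat_lit 3, nat_lit 0, nat_lit 1, nat_lit 3, nat_lit 0, nat_lit 1, nat_lit 3, nat_lit 0, nat_lit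 2, nat_lit 3, nat_lit 1, nat_lit 0, nat_lit 3, nat_lit 1, nat_lit 0, nat_lit 1, nat_lit 0, nat_lit 1, nat_lit 2, nat_lit 3, nat_lit 1, nat_lit 0, nat_lit 3, nat_lit 0, nat_lit 1, nat_lit 3, nat_lit 0, nat_lit 2, nat_lit 3, nat_lit 0]) (TL.leaf [nat_lit 3, nat_lit 0, nat_lit 1, nat_lit 3, nat_lit 0, nat_lit 1, nat_lit 3, nat_lit 2, nat_lit 0, nat_lit 3, nat_lit 1, nat_lit 0, nat_lit 3, nat_lit 1, nat_lit 0, nat_lit 3, nat_lit 2, nat_lit 1, nat_lit 0, nat_lit 1, nat_lit 3, nat_lit 0, nat_lit 1, nat_lit 3, nat_lit 0, nat_lit 1, nat_lit 3, nat_lit 1, nat_lit 2, nat_lit 0, nat_lit 2]))) (TL.node (TL.node (TL.leaf [nat_lit 0, nat_lit 2, nat_lit 0, nat_lit 2, nat_lit 3, nat_lit 1, nat_lit 0, nat_lit 3, nat_lit 0, nat_lit 1, nat_lit 3, nat_lit 0, nat_lit 3, nat_lit 0, nat_lit 2, nat_lit 3, nat_lit 1, nat_lit 3, nat_lit 0, nat_lit 1, nat_lit 0, nat_lit 2, nat_lit 0, nat_lit 3, nat_lit 2, nat_lit 0, nat_lit 1]) (TL.leaf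 [nat_lit 0, nat_lit 2, nat_lit 3, nat_lit 0, nat_lit 2, nat_lit 1, nat_lit 0, nat_lit 3, nat_lit 1, nat_lit 2, nat_lit 0, nat_lit 2, nat_lit 0, nat_lit 1, nat_lit 0, nat_lit 2, nat_lit 3, nat_lit 1, nat_lit 2, nat_lit 0, nat_lit 3, nat_lit 1, nat_lit 0, nat_lit 3, nat_lit 0, nat_lit 1, nat_lit 3, nat_lit 0, nat_lit 3, nat_lit 1, nat_lit 2, nat_lit 0])) (TL.node (TL.leaf [nat_lit 3, nat_lit 0, nat_lit 1, nat_lit 3, nat_lit 0, nat_lit 1, nat_lit 3, nat_lit 0, nat_lit 2, nat_lit 3, nat_lit 1, nat_lit 0, nat_lit 3, nat_lit 1, nat_lit 0, nat_lit 3, nat_lit 1, nat_lit 3, nat_lit 0, nat_lit 1, nat_lit 3, nat_lit 0, nat_lit 1, nat_lit 3, nat_lit 1, nat_lit 2, nat_lit 0, nat_lit 2, nat_lit 3, nat_lit 1, nat_lit 0]) (TL.leaf [nat_lit 2, nat_lit 1, nat_lit 0, nat_lit 3, nat_lit 1, nat_lit 0, nat_lit 2, nat_lit 3, nat_lit 1, nat_lit 3, nat_lit 0, nat_lit 3, nat_lit 2, nat_lit 0, nat_lit 3, nat_lit 0, nat_lit 3])))))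
noncomputable def W (i : ℕ) : List ℕ := TL.get W_t i
def Qf_t : TN := (TN.node (TN.node (TN.leaf (nat_lit 0x2a39a93592a344408481c2268918be3e6239675148166425412228d00aac0ddb61a4d8051852886b60947ed928300a9cb464f8db866dd8a45e721079ce94c44e5deb0b9650a03e4ed2e6b8ab604c346403d87190bc38b15af169d2592a7d5791e6bb906db0abf7b02bb67620922512c616ba0b3065ee9896a9fd360380955eb68ca9384402c559cb76848b32a0e18cf875615c4c6548c20b29059ca2a1f4e8ad041ad60450e00986b2fac201e85d9ec736b9c46e9e3d8e9261aaa4d903637a3999674d9c7a5e99fa58e8b3bae9802b771fae14802e2870a0ab92e2c01b21d4b6c2d063ea04afe05e2d6c054b1c9a8d2a418acd53a11c5ad572a7933c0ca1dce1adc2541e422004b3c411288e6099b152221000805623d25cb7694255c188b208268b3021c103972a49c30e180c5f0a0c07e9c58a2c51cc61c806a1a152fc5875d6ac56a94d97c9ac5d2e4da362454ec8346ccc746ecf3a447eae1bcddac47af29639d5b05399367e2a63494dbf78526b768ad7b01a90ec7568d08e1f045966648b9e86613870a0aa7ed8e243651cb464f803866dd8835e956ab590149e417173c2e3232720a0ebd765a501466acba898449f1f5312291748849d581086014c35))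 (TN.leaf (nat_lit 0x921ddca60060ab6d197607efa2a9811d3cfb0dcf2a5985a245b0f102b966ea818a06daa0a4953a240388a418bd82a987275aece8f5e6dca2858af1e86cea60be2de5b5646314155d7404115fb68372499ac610cf98251cb02f4d5d7414f839c09ab49b1d663265aaaa6322225b3842240129bb07cc9c1c1c18ab454e4d123346804a7486d86ed535a764108195356002c927af5b26e55568183d7416dd778d98ae7e2a03882c8e9344454a3b27ea0b181eea84e5e145283c11c89799e0867a63e9696b4ec46c1e3c224c088d1e45fc78b0e0bf7aedcb76acd8af5aad4a74a8d09f3a6cc972a4c88f1a2c4870a0c07ef9ebc76e9cb86ed9ab466c98b05eb96ac56a94a84e992a446890a03e78e9c3668c982e58a9426488901e3868c16284880e1828406080808a2e7929a352ab4d0143e942061170dde3b0f2e1138f8265e877e4d342671c63f38e02280ea62ad54c23ae80f1b44293c4b165ec166d6d292e740011e5a961a174d4862418510aeadb658bdcb40c38aae64fd52d082525c82e0e4a8d20d00229552b66ddb398874a1bc2fafc99d5e29897031ac8f3545a0d614d1a0486d3a44130c4e1cb951c2020fb8152595b6ee8168be1b27ec513d6066135)))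 (TN.node (TN.leaf (nat_lit 0x46784bb9982a163e2af55c4b81569e2c98374f10213a3e831836ed044a268b316208cb5d7a45f78315bd7469c58aa71052ae15f239ca5dcf5aa0c122ad082f588a6869292b596ed709ec71131f2e06045945ae93054d807c553003b8d954743185437e513cc646c68e8401c994e5d495a148e93bd7564886b63963512ce178fd888a87d7d12039026180efa1170664f7b2c0c95649536b01f019694ddb39a45f3a1296dae80c87c548a31c60d280394679b8a38e2ab5c4102ceae36d5630c215c286d1027a15d1a3a3c620a0c5e52aae2bab39620db00c8b446685c896a649cc850e89f525f1d903864d60e8e386973ad1e5a1178ea841f834c9c4156c2a55c80c2fd3318231b7d352128a505aabcb015d228a4256ed312e5035dcf8d1d71e670c9ac532411f201d39c42820b11a1941b7302d32c58dd8abcb68ca3a4470c8a5e5881624084bf228161f8615c4c66dcdaaac92228929d2b181fd4980d50074c02a3ba95f575ef67bc6f11b38ad38ab43565a98182f0345f42a14727693b3664683458a15e24adc3e521e4d9c205b58bf056977ef143211025c79891ecf1f161a7625a8d60c8ed91bae8d374c94c0a0a26d1e098e71fb94eaaaaf3400266c242e))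 (TN.leaf (nat_lit 0x68b9dbc5ec583a7f05eb67d0193570ddcb38eb126092196909e566d2bd6d4ce848b0c50972d281a32b9ea18a1851e825a32e1cec888513cc3226c932c2e892114eb18958ce26aa6c71abe012913e0ea4656aaea104280d88c093b0812840797248188ec4e2e71220ac6f0e2b57251f961c286c44d09686b4a0d04223eda44b642dd5761500b80689747594922b3a7d3664de1e407ce9baa25d32a14b0de18f85b6335e6a2778deb45f7e621c40ea6024664c7863509f3c8a6cc04b13134e1d4c2806053250ad6850c6a338726c791677c42e1624edb82c644ba146d25bc11d8178f57d400dabe37c0cb352ad0658a4e8bdd212981c1cfd059c510a608adf0dc488eb4ea6aa7d50a00195a55ea08a03cc1a18bdc10788189c9b08686b696f14151134ec768e89a265d0e42e599b3e5da937acaad6a65af8b90465cc4611112))))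
noncomputable def Qf (i : ℕ) : ℕ := get9 Qf_t (nat_lit 7) (nat_lit 127) i
noncomputable def Q (j c : ℕ) : ℕ := Qf (Nat.add (Nat.mul j (nat_lit 100)) c)
def B : List ℕ := [nat_lit 95, nat_lit 22, nat_lit 7, nat_lit 89]
noncomputable def q (j : ℕ) : Cfsg.Spor.J2 := ev J2.al (W j)
noncomputable def f0 : ℕ → ℕ := tabE J2.T Q W (nat_lit 19)
theorem a0 : Nat.beq (rng f0 (nat_lit 0) (nat_lit 100)) (nat_lit 0) = true := by decide +kernel
theorem h0 : ∀ i < 100, f0 i = 0 := by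
  have h := zero_lt_zero f0
  have h := zero_lt_add (a := (nat_lit 0)) (n := (nat_lit 100)) (b := (nat_lit 100)) h a0 rfl
  exact h
theorem md : Md J2.pt 100 B q Q 19 := (J2.md0).words (by decide +kernel) h0
def R_t1 : TL := (TL.node (TL.node (TL.node (TL.node (TL.node (TL.node (TL.leaf []) (TL.leaf [nat_lit 0])) (TL.node (TL.leaf [nat_lit 0]) (TL.leaf [nat_lit 0]))) (TL.node (TL.node (TL.leaf [nat_lit 0]) (TL.leaf [nat_lit 0])) (TL.leaf [nat_lit 0]))) (TL.node (TL.node (TL.node (TL.leaf []) (TL.leaf [])) (TL.node (TL.leaf []) (TL.leaf []))) (TL.node (TL.node (TL.leaf []) (TL.leaf [])) (TL.leaf [])))) (TL.node (TL.node (TL.node (TL.node (TL.leaf []) (TL.leaf [])) (TL.node (TL.leaf []) (TL.leaf []))) (TL.node (TL.node (TL.leaf []) (TL.leaf [])) (TL.leaf []))) (TL.node (TL.node (TL.node (TL.leaf []) (TL.leaf [])) (TL.node (TL.leaf []) (TL.leaf []))) (TL.node (TL.node (TL.leaf []) (TL.leaf [])) (TL.leaf [])))))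 (TL.node (TL.node (TL.node (TL.node (TL.node (TL.leaf []) (TL.leaf [])) (TL.node (TL.leaf []) (TL.leaf [nat_lit 1, nat_lit 2, nat_lit 4]))) (TL.node (TL.node (TL.leaf []) (TL.leaf [nat_lit 0, nat_lit 1, nat_lit 2, nat_lit 3, nat_lit 4])) (TL.leaf []))) (TL.node (TL.node (TL.node (TL.leaf []) (TL.leaf [])) (TL.node (TL.leaf []) (TL.leaf []))) (TL.node (TL.node (TL.leaf []) (TL.leaf [])) (TL.leaf [])))) (TL.node (TL.node (TL.node (TL.node (TL.leaf []) (TL.leaf [])) (TL.node (TL.leaf []) (TL.leaf []))) (TL.node (TL.node (TL.leaf []) (TL.leaf [])) (TL.leaf []))) (TL.node (TL.node (TL.node (TL.leaf []) (TL.leaf [])) (TL.node (TL.leaf []) (TL.leaf []))) (TL.node (TL.node (TL.leaf []) (TL.leaf [])) (TL.leaf []))))))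
def R_t2 : TL := (TL.node (TL.node (TL.node (TL.node (TL.node (TL.node (TL.leaf []) (TL.leaf [nat_lit 2])) (TL.node (TL.leaf [nat_lit 0]) (TL.leaf [nat_lit 0, nat_lit 2]))) (TL.node (TL.node (TL.leaf []) (TL.leaf [nat_lit 0, nat_lit 1, nat_lit 2])) (TL.leaf [nat_lit 0, nat_lit 2]))) (TL.node (TL.node (TL.node (TL.leaf []) (TL.leaf [])) (TL.node (TL.leaf []) (TL.leaf []))) (TL.node (TL.node (TL.leaf []) (TL.leaf [])) (TL.leaf [])))) (TL.node (TL.node (TL.node (TL.node (TL.leaf []) (TL.leaf [])) (TL.node (TL.leaf []) (TL.leaf []))) (TL.node (TL.node (TL.leaf []) (TL.leaf [])) (TL.leaf []))) (TL.node (TL.node (TL.node (TL.leaf []) (TL.leaf [])) (TL.node (TL.leaf []) (TL.leaf []))) (TL.node (TL.node (TL.leaf []) (TL.leaf [])) (TL.leaf []))))) (TL.node (TL.node (TL.node (TL.node (TL.node (TL.leaf []) (TL.leaf [])) (TL.node (TL.leaf []) (TL.leaf []))) (TL.node (TL.node (TL.leaf []) (TL.leaf [])) (TL.leaf [])))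 (TL.node (TL.node (TL.node (TL.leaf []) (TL.leaf [])) (TL.node (TL.leaf []) (TL.leaf []))) (TL.node (TL.node (TL.leaf []) (TL.leaf [])) (TL.leaf [])))) (TL.node (TL.node (TL.node (TL.node (TL.leaf []) (TL.leaf [])) (TL.node (TL.leaf []) (TL.leaf []))) (TL.node (TL.node (TL.leaf []) (TL.leaf [])) (TL.leaf []))) (TL.node (TL.node (TL.node (TL.leaf []) (TL.leaf [])) (TL.node (TL.leaf []) (TL.leaf []))) (TL.node (TL.node (TL.leaf []) (TL.leaf [])) (TL.leaf []))))))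
def R_t3 : TL := (TL.node R_t1 R_t2)
def R_t4 : TL := (TL.node (TL.node (TL.node (TL.node (TL.node (TL.node (TL.leaf []) (TL.leaf [nat_lit 0, nat_lit 1])) (TL.node (TL.leaf [nat_lit 1]) (TL.leaf [nat_lit 1]))) (TL.node (TL.node (TL.leaf []) (TL.leaf [nat_lit 0, nat_lit 1])) (TL.leaf [nat_lit 1]))) (TL.node (TL.node (TL.node (TL.leaf []) (TL.leaf [])) (TL.node (TL.leaf []) (TL.leaf []))) (TL.node (TL.node (TL.leaf []) (TL.leaf [])) (TL.leaf [])))) (TL.node (TL.node (TL.node (TL.node (TL.leaf []) (TL.leaf [])) (TL.node (TL.leaf []) (TL.leaf []))) (TL.node (TL.node (TL.leaf []) (TL.leaf [])) (TL.leaf []))) (TL.node (TL.node (TL.node (TL.leaf []) (TL.leaf [])) (TL.node (TL.leaf []) (TL.leaf []))) (TL.node (TL.node (TL.leaf []) (TL.leaf [])) (TL.leaf []))))) (TL.node (TL.node (TL.node (TL.node (TL.node (TL.leaf []) (TL.leaf [])) (TL.node (TL.leaf []) (TL.leaf [nat_lit 0, nat_lit 1, nat_lit 2, nat_lit 5]))) (TL.node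 (TL.node (TL.leaf []) (TL.leaf [nat_lit 0, nat_lit 2, nat_lit 3])) (TL.leaf []))) (TL.node (TL.node (TL.node (TL.leaf []) (TL.leaf [])) (TL.node (TL.leaf []) (TL.leaf []))) (TL.node (TL.node (TL.leaf []) (TL.leaf [])) (TL.leaf [])))) (TL.node (TL.node (TL.node (TL.node (TL.leaf []) (TL.leaf [])) (TL.node (TL.leaf []) (TL.leaf []))) (TL.node (TL.node (TL.leaf []) (TL.leaf [])) (TL.leaf []))) (TL.node (TL.node (TL.node (TL.leaf []) (TL.leaf [])) (TL.node (TL.leaf []) (TL.leaf []))) (TL.node (TL.node (TL.leaf []) (TL.leaf [])) (TL.leaf []))))))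
def R_t5 : TL := (TL.node (TL.node (TL.node (TL.node (TL.node (TL.node (TL.leaf []) (TL.leaf [nat_lit 3])) (TL.node (TL.leaf []) (TL.leaf [nat_lit 0, nat_lit 1, nat_lit 3]))) (TL.node (TL.node (TL.leaf []) (TL.leaf [nat_lit 0, nat_lit 1, nat_lit 3])) (TL.leaf [nat_lit 0]))) (TL.node (TL.node (TL.node (TL.leaf []) (TL.leaf [])) (TL.node (TL.leaf []) (TL.leaf []))) (TL.node (TL.node (TL.leaf []) (TL.leaf [])) (TL.leaf [])))) (TL.node (TL.node (TL.node (TL.node (TL.leaf []) (TL.leaf [])) (TL.node (TL.leaf []) (TL.leaf []))) (TL.node (TL.node (TL.leaf []) (TL.leaf [])) (TL.leaf []))) (TL.node (TL.node (TL.node (TL.leaf []) (TL.leaf [])) (TL.node (TL.leaf []) (TL.leaf []))) (TL.node (TL.node (TL.leaf []) (TL.leaf [])) (TL.leaf []))))) (TL.node (TL.node (TL.node (TL.node (TL.node (TL.leaf []) (TL.leaf [])) (TL.node (TL.leaf []) (TL.leaf []))) (TL.node (TL.node (TL.leaf []) (TL.leaf [])) (TL.leaf []))) (TL.node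 (TL.node (TL.node (TL.leaf []) (TL.leaf [])) (TL.node (TL.leaf []) (TL.leaf []))) (TL.node (TL.node (TL.leaf []) (TL.leaf [])) (TL.leaf [])))) (TL.node (TL.node (TL.node (TL.node (TL.leaf []) (TL.leaf [])) (TL.node (TL.leaf []) (TL.leaf []))) (TL.node (TL.node (TL.leaf []) (TL.leaf [])) (TL.leaf []))) (TL.node (TL.node (TL.node (TL.leaf []) (TL.leaf [])) (TL.node (TL.leaf []) (TL.leaf []))) (TL.node (TL.node (TL.leaf []) (TL.leaf [])) (TL.leaf []))))))
def R_t6 : TL := (TL.node R_t4 R_t5)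
def R_t : TL := (TL.node R_t3 R_t6)
noncomputable def R (i : ℕ) : List ℕ := TL.get R_t i
def Zm (i : ℕ) : ℕ := Nat.land (Nat.shiftRight (nat_lit 0x8000000) (Nat.mul (nat_lit 1) i)) (nat_lit 1)
def Zc (i : ℕ) : ℕ := Nat.land (Nat.shiftRight (nat_lit 0x4924924924922492492492492492492492496db6db4924924924924924922492492492492492492492494924926db900) (Nat.mul (nat_lit 3) i)) (nat_lit 7)
def U_t1 : TL := (TL.node (TL.node (TL.node (TL.node (TL.node (TL.node (TL.leaf [nat_lit 0]) (TL.leaf [nat_lit 0])) (TL.node (TL.leaf [nat_lit 0]) (TL.leaf [nat_lit 0]))) (TL.node (TL.node (TL.leaf [nat_lit 0]) (TL.leaf [nat_lit 0])) (TL.node (TL.leaf [nat_lit 0]) (TL.leaf [nat_lit 0])))) (TL.node (TL.node (TL.node (TL.leaf []) (TL.leaf [])) (TL.node (TL.leaf []) (TL.leaf []))) (TL.node (TL.node (TL.leaf []) (TL.leaf [])) (TL.node (TL.leaf []) (TL.leaf []))))) (TL.node (TL.node (TL.node (TL.node (TL.leaf []) (TL.leaf [])) (TL.node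 (TL.leaf []) (TL.leaf []))) (TL.node (TL.node (TL.leaf []) (TL.leaf [])) (TL.node (TL.leaf []) (TL.leaf [])))) (TL.node (TL.node (TL.node (TL.leaf []) (TL.leaf [])) (TL.node (TL.leaf []) (TL.leaf []))) (TL.node (TL.node (TL.leaf []) (TL.leaf [])) (TL.node (TL.leaf []) (TL.leaf [])))))) (TL.node (TL.node (TL.node (TL.node (TL.node (TL.leaf [nat_lit 4]) (TL.leaf [nat_lit 4])) (TL.node (TL.leaf [nat_lit 4]) (TL.leaf [nat_lit 1, nat_lit 2, nat_lit 4]))) (TL.node (TL.node (TL.leaf [nat_lit 0, nat_lit 4]) (TL.leaf [nat_lit 0, nat_lit 1, nat_lit 2, nat_lit 3, nat_lit 4])) (TL.node (TL.leaf [nat_lit 4]) (TL.leaf [nat_lit 1])))) (TL.node (TL.node (TL.node (TL.leaf []) (TL.leaf [])) (TL.node (TL.leaf []) (TL.leaf []))) (TL.node (TL.node (TL.leaf []) (TL.leaf [])) (TL.node (TL.leaf []) (TL.leaf []))))) (TL.node (TL.node (TL.node (TL.node (TL.leaf []) (TL.leaf [])) (TL.node (TL.leaf []) (TL.leaf []))) (TL.node (TL.node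 (TL.leaf []) (TL.leaf [])) (TL.node (TL.leaf []) (TL.leaf [])))) (TL.node (TL.node (TL.node (TL.leaf []) (TL.leaf [])) (TL.node (TL.leaf []) (TL.leaf []))) (TL.node (TL.node (TL.leaf []) (TL.leaf [])) (TL.node (TL.leaf []) (TL.leaf [])))))))
def U_t2 : TL := (TL.node (TL.node (TL.node (TL.node (TL.node (TL.node (TL.leaf [nat_lit 2]) (TL.leaf [nat_lit 2])) (TL.node (TL.leaf [nat_lit 2]) (TL.leaf [nat_lit 0, nat_lit 2]))) (TL.node (TL.node (TL.leaf [nat_lit 2]) (TL.leaf [nat_lit 0, nat_lit 1, nat_lit 2])) (TL.node (TL.leaf [nat_lit 0, nat_lit 2]) (TL.leaf [nat_lit 0, nat_lit 2])))) (TL.node (TL.node (TL.node (TL.leaf []) (TL.leaf [])) (TL.node (TL.leaf []) (TL.leaf []))) (TL.node (TL.node (TL.leaf []) (TL.leaf [])) (TL.node (TL.leaf []) (TL.leaf []))))) (TL.node (TL.node (TL.node (TL.node (TL.leaf []) (TL.leaf [])) (TL.node (TL.leaf []) (TL.leaf []))) (TL.node (TL.node (TL.leaf []) (TL.leaf [])) (TL.node (TL.leaf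 []) (TL.leaf [])))) (TL.node (TL.node (TL.node (TL.leaf []) (TL.leaf [])) (TL.node (TL.leaf []) (TL.leaf []))) (TL.node (TL.node (TL.leaf []) (TL.leaf [])) (TL.node (TL.leaf []) (TL.leaf [])))))) (TL.node (TL.node (TL.node (TL.node (TL.node (TL.leaf []) (TL.leaf [])) (TL.node (TL.leaf []) (TL.leaf []))) (TL.node (TL.node (TL.leaf []) (TL.leaf [])) (TL.node (TL.leaf []) (TL.leaf [])))) (TL.node (TL.node (TL.node (TL.leaf []) (TL.leaf [])) (TL.node (TL.leaf []) (TL.leaf []))) (TL.node (TL.node (TL.leaf []) (TL.leaf [])) (TL.node (TL.leaf []) (TL.leaf []))))) (TL.node (TL.node (TL.node (TL.node (TL.leaf []) (TL.leaf [])) (TL.node (TL.leaf []) (TL.leaf []))) (TL.node (TL.node (TL.leaf []) (TL.leaf [])) (TL.node (TL.leaf []) (TL.leaf [])))) (TL.node (TL.node (TL.node (TL.leaf []) (TL.leaf [])) (TL.node (TL.leaf []) (TL.leaf []))) (TL.node (TL.node (TL.leaf []) (TL.leaf [])) (TL.node (TL.leaf []) (TL.leaf [])))))))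
def U_t3 : TL := (TL.node U_t1 U_t2)
def U_t4 : TL := (TL.node (TL.node (TL.node (TL.node (TL.node (TL.node (TL.leaf [nat_lit 1]) (TL.leaf [nat_lit 0, nat_lit 1])) (TL.node (TL.leaf [nat_lit 1]) (TL.leaf [nat_lit 1]))) (TL.node (TL.node (TL.leaf [nat_lit 1]) (TL.leaf [nat_lit 0, nat_lit 1])) (TL.node (TL.leaf [nat_lit 1]) (TL.leaf [nat_lit 4])))) (TL.node (TL.node (TL.node (TL.leaf []) (TL.leaf [])) (TL.node (TL.leaf []) (TL.leaf []))) (TL.node (TL.node (TL.leaf []) (TL.leaf [])) (TL.node (TL.leaf []) (TL.leaf []))))) (TL.node (TL.node (TL.node (TL.node (TL.leaf []) (TL.leaf [])) (TL.node (TL.leaf []) (TL.leaf []))) (TL.node (TL.node (TL.leaf []) (TL.leaf [])) (TL.node (TL.leaf []) (TL.leaf [])))) (TL.node (TL.node (TL.node (TL.leaf []) (TL.leaf [])) (TL.node (TL.leaf []) (TL.leaf []))) (TL.node (TL.node (TL.leaf []) (TL.leaf [])) (TL.node (TL.leaf []) (TL.leaf [])))))) (TL.node (TL.node (TL.node (TL.node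 (TL.node (TL.leaf []) (TL.leaf [])) (TL.node (TL.leaf []) (TL.leaf []))) (TL.node (TL.node (TL.leaf []) (TL.leaf [])) (TL.node (TL.leaf []) (TL.leaf [])))) (TL.node (TL.node (TL.node (TL.leaf []) (TL.leaf [])) (TL.node (TL.leaf []) (TL.leaf []))) (TL.node (TL.node (TL.leaf []) (TL.leaf [])) (TL.node (TL.leaf []) (TL.leaf []))))) (TL.node (TL.node (TL.node (TL.node (TL.leaf []) (TL.leaf [])) (TL.node (TL.leaf []) (TL.leaf []))) (TL.node (TL.node (TL.leaf []) (TL.leaf [])) (TL.node (TL.leaf []) (TL.leaf [])))) (TL.node (TL.node (TL.node (TL.leaf []) (TL.leaf [])) (TL.node (TL.leaf []) (TL.leaf []))) (TL.node (TL.node (TL.leaf []) (TL.leaf [])) (TL.node (TL.leaf []) (TL.leaf [])))))))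
def U_t5 : TL := (TL.node (TL.node (TL.node (TL.node (TL.node (TL.node (TL.leaf [nat_lit 3]) (TL.leaf [nat_lit 3])) (TL.node (TL.leaf [nat_lit 0, nat_lit 3]) (TL.leaf [nat_lit 0, nat_lit 1, nat_lit 3]))) (TL.node (TL.node (TL.leaf [nat_lit 3]) (TL.leaf [nat_lit 0, nat_lit 1, nat_lit 3])) (TL.node (TL.leaf [nat_lit 3]) (TL.leaf [nat_lit 2, nat_lit 3])))) (TL.node (TL.node (TL.node (TL.leaf []) (TL.leaf [])) (TL.node (TL.leaf []) (TL.leaf []))) (TL.node (TL.node (TL.leaf []) (TL.leaf [])) (TL.node (TL.leaf []) (TL.leaf []))))) (TL.node (TL.node (TL.node (TL.node (TL.leaf []) (TL.leaf [])) (TL.node (TL.leaf []) (TL.leaf []))) (TL.node (TL.node (TL.leaf []) (TL.leaf [])) (TL.node (TL.leaf []) (TL.leaf [])))) (TL.node (TL.node (TL.node (TL.leaf []) (TL.leaf [])) (TL.node (TL.leaf []) (TL.leaf []))) (TL.node (TL.node (TL.leaf []) (TL.leaf [])) (TL.node (TL.leaf []) (TL.leaf [])))))) (TL.node (TL.node (TL.node (TL.node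 (TL.node (TL.leaf []) (TL.leaf [])) (TL.node (TL.leaf []) (TL.leaf []))) (TL.node (TL.node (TL.leaf []) (TL.leaf [])) (TL.node (TL.leaf []) (TL.leaf [])))) (TL.node (TL.node (TL.node (TL.leaf []) (TL.leaf [])) (TL.node (TL.leaf []) (TL.leaf []))) (TL.node (TL.node (TL.leaf []) (TL.leaf [])) (TL.node (TL.leaf []) (TL.leaf []))))) (TL.node (TL.node (TL.node (TL.node (TL.leaf []) (TL.leaf [])) (TL.node (TL.leaf []) (TL.leaf []))) (TL.node (TL.node (TL.leaf []) (TL.leaf [])) (TL.node (TL.leaf []) (TL.leaf [])))) (TL.node (TL.node (TL.node (TL.leaf []) (TL.leaf [])) (TL.node (TL.leaf []) (TL.leaf []))) (TL.node (TL.node (TL.leaf []) (TL.leaf [])) (TL.node (TL.leaf []) (TL.leaf [])))))))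
def U_t6 : TL := (TL.node U_t4 U_t5)
def U_t : TL := (TL.node U_t3 U_t6)
noncomputable def U (i : ℕ) : List ℕ := TL.get U_t i
noncomputable def f1 : ℕ → ℕ := mvE Q (nat_lit 100) (nat_lit 2) (nat_lit 7) Zm
theorem b0 : Nat.beq (rng f1 (nat_lit 0) (nat_lit 128)) (nat_lit 0) = true := by decide +kernel
theorem h1 : ∀ i < 128, f1 i = 0 := by
  have h := zero_lt_zero f1
  have h := zero_lt_add (a := (nat_lit 0)) (n := (nat_lit 128)) (b := (nat_lit 128)) h b0 rfl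
  exact h
theorem sy : Sy q 2 7 R := md.sy' (by decide) (by decide) (upTo_beq (by decide +kernel)) (pr := 128) rfl h1 (by rw [J2.card]; decide)
noncomputable def f2 : ℕ → ℕ := ncE Q (nat_lit 100) (nat_lit 5) (nat_lit 7) (nat_lit 32) Zc
theorem c0 : Nat.beq (rng f2 (nat_lit 0) (nat_lit 128)) (nat_lit 0) = true := by decide +kernel
theorem h2 : ∀ i < 128, f2 i = 0 := by
  have h := zero_lt_zero f2
  have h := zero_lt_add (a := (nat_lit 0)) (n := (nat_lit 128)) (b := (nat_lit 128)) h c0 rfl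
  exact h
def sg (i : ℕ) : ℕ := Nat.land (Nat.shiftRight (nat_lit 47768) (Nat.mul (nat_lit 4) i)) (nat_lit 15)
def si (i : ℕ) : ℕ := Nat.land (Nat.shiftRight (nat_lit 43913) (Nat.mul (nat_lit 4) i)) (nat_lit 15)
def V_t : TN := (TN.leaf (nat_lit 0x3ad1837c3819441c24c00e8c059202ce50f74c6e198083285465003461fe9476931b0462774c1b814a0d3051a601948181180032001440a30a111140082946c703f0801e1802a1802e300d482ce181dc281be602a8e0d4945a73000c201dc8034100702001823f0cc0cf94002084ec502a4801e140c02013e408a0a11a9a2883bac0702a881fb1c9fc3007e300d8a03510035180000029ca0461c07f20146503d8806014225281b442a80c0060c03f204f8508a4a0549488931fae7083cc1ad149ff3051a50370c01010f5d383b450224800184f77380ec40fc8a14514a37301ee51c08c7e018a36301fa50000411394002106126028cce049c1ff2815040d64a01e900282844651c34c354980dc2001020ddca046940dd30002106a8a0050c9d93004663f74c3ac98016186e471aa0c3b818f0940eb867708e01b0c03d1946460a0ca07e9867c3001a403fc813a9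40a53181270088c02d10dd7344b27019c84511802a306545002061ac180ff281ba40274806f902a72804e3000023fe9835a30140409dca14f981692878472228c0139888d3014442770c044140c9206b8600a06051902a22803430a5ce1539803728e066000060010c758306ec70f5cc0eb141a22815070834c511988963044a60088841b1c0d62851e508c0c0049420c307ea52270c061140232154461fc8c061109f630006300fca0d41401c1851e60a74c554980d820e10636a4c041140c32154a600f4a1f814aa3300122001c403a903f5307b250a20a00188a7f383845035881bf9400d2805260230a507983da381ee60d80a0479488c30504509f4a44b1c088203ae500144154140fd204fe503d8c007900191838650aa4a01b8c01f19bb4627c0c1b414028201ea53020e14e181fc286ec5228cc1b1140d72861a50228800110030200b840aa8a7ee180c82801e300a88ffa9c0301814e7008861b51468930194500c86146183f73011250658a00794d63386f8500dcc01910029206be632a4c078180292986c60fdca005081c02801a21ff0c1ba9400f100145))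
noncomputable def V (i : ℕ) : ℕ := get9 V_t (nat_lit 19) (nat_lit 524287) i
noncomputable def f3 : ℕ → ℕ := clE Q sg si (nat_lit 100) (nat_lit 0) [nat_lit 95, nat_lit 22, nat_lit 7] V
theorem d0 : Nat.beq (rng f3 (nat_lit 0) (nat_lit 314)) (nat_lit 0) = true := by decide +kernel
theorem h3 : ∀ i < 314, f3 i = 0 := by
  have h := zero_lt_zero f3
  have h := zero_lt_add (a := (nat_lit 0)) (n := (nat_lit 314)) (b := (nat_lit 314)) h d0 rfl
  exact h
theorem loc : Loc q 5 7 8 R := md.loc sy (by decide) (ps := 32) (pr := 128) ⟨rfl, rfl⟩ h2 (U := U)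
  (upTo_beq (by decide +kernel)) (l := [([nat_lit 6, nat_lit 7, nat_lit 2], (nat_lit 3)), ([nat_lit 5, nat_lit 7, nat_lit 2], (nat_lit 5))]) (by decide +kernel) ⟨by decide, by decide⟩
  (md.cls (by decide +kernel) h3 fun _ _ => trivial) (by rw [J2.card]; decide)
def cH_t : TL := (TL.node (TL.node (TL.leaf []) (TL.leaf [nat_lit 2, nat_lit 7])) (TL.node (TL.leaf [nat_lit 6, nat_lit 6, nat_lit 7]) (TL.leaf [nat_lit 4, nat_lit 1, nat_lit 7])))
noncomputable def cH (i : ℕ) : List ℕ := TL.get cH_t i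
def cI_t : TL := (TL.node (TL.node (TL.leaf []) (TL.leaf [nat_lit 7, nat_lit 2, nat_lit 2, nat_lit 2])) (TL.node (TL.leaf [nat_lit 7, nat_lit 6, nat_lit 6]) (TL.leaf [nat_lit 7, nat_lit 1, nat_lit 4])))
noncomputable def cI (i : ℕ) : List ℕ := TL.get cI_t i
def cW_t : TL := (TL.node (TL.node (TL.leaf []) (TL.leaf [nat_lit 6])) (TL.node (TL.leaf [nat_lit 5, nat_lit 3]) (TL.leaf [nat_lit 6, nat_lit 5])))
noncomputable def cW (i : ℕ) : List ℕ := TL.get cW_t i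
def cE (i : ℕ) : ℕ := Nat.land (Nat.shiftRight (nat_lit 152) (Nat.mul (nat_lit 2) i)) (nat_lit 3)
theorem core : Core q 5 7 8 := md.core (k := 2) loc (by decide) (H := cH) (H' := cI) (W := cW) (E := cE) (pk := 4) rfl
  (upTo_beq (by decide +kernel))

end Cfsg.Agent.Ct.J2f
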